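/-
A triple cover from weights modulo three on the edges of a certified action of a presented group.
-/
import Cfsg.Agent.Lib.CosetEnum.Cox
import Cfsg.Prelude.Def_KGroupFacts

set_option autoImplicit false
set_option linter.style.haveILetI false

namespace CfsgLib.ONMult.Monomial

open CfsgLib.CosetEnum

variable {P : Pres} (C : Cert P)

/-- The sum of the weights along a word. -/
noncomputable def sumW (wt : ℕ → ℕ → ℕ) : List ℕ → ℕ → ℕ → ℕ
  | [], _, s => s
  | x :: w, d, s => sumW wt w (C.T.act C.D.k d x) (s + wt x d)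

variable (wt : ℕ → ℕ → ℕ) (cR : List ℕ)

/-- The hypotheses on the weights. -/
structure Ok : Prop where
  sums : ∀ i < P.rels.length, ∀ d < C.T.n, sumW C wt (P.rels.getD i []) d 0 % 3 = cR.getD i 0
  square : ∀ x < P.k, ∃ i < P.rels.length, P.rels.getD i [] = [x, x] ∧ cR.getD i 0 = 0
  value : ∃ i < P.rels.length, cR.getD i 0 = 1
  letters : ∀ w ∈ P.rels, ∀ x ∈ w, x < P.k
  numbered : ∀ i < P.k, P.idx (P.gen i) = i

/-- The points of the cover. -/
abbrev Pts : Type := Fin C.T.n × ZMod 3

/-- One step. -/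
noncomputable def step (x : ℕ) (p : Pts C) : Pts C := (C.perm x p.1, p.2 + (wt x (p.1 : ℕ) : ZMod 3))

open scoped Classical in
/-- The lift of a generator. -/
noncomputable def tau (x : ℕ) : Equiv.Perm (Pts C) :=
  if h : x < P.k ∧ Function.Involutive (step C wt x) then h.2.toPerm _ else 1

theorem tau_sq (x : ℕ) : tau C wt x * tau C wt x = 1 := by
  classical
  unfold tau
  split
  · rename_i h
    refine Equiv.ext fun p => ?_
    exact h.2 p
  · exact one_mul 1

/-- The translation of the fibres. -/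
def shift (k : ZMod 3) : Equiv.Perm (Pts C) where
  toFun p := (p.1, p.2 + k)
  invFun p := (p.1, p.2 - k)
  left_inv p := by simp
  right_inv p := by simp

/-- The ambient group. -/
abbrev Amb : Type := P.Grp × Equiv.Perm (Pts C)

/-- The central element. -/
def zz : Amb C := (1, shift C 1)

/-- The generators. -/
noncomputable def gg (x : ℕ) : Amb C := (P.σ x, tau C wt x)

/-- The cover. -/
noncomputable def Cov : Subgroup (Amb C) := Subgroup.closure (Set.range (gg C wt) ∪ {zz C})

theorem gg_mem (x : ℕ) : gg C wt x ∈ Cov C wt := Subgroup.subset_closure (Or.inl ⟨x, rfl⟩)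

theorem zz_mem : zz C ∈ Cov C wt := Subgroup.subset_closure (Or.inr rfl)

/-- The projection. -/
noncomputable def proj : Cov C wt →* P.Grp := (MonoidHom.fst P.Grp (Equiv.Perm (Pts C))).comp (Cov C wt).subtype

/-- The central element of the cover. -/
noncomputable def zc : Cov C wt := ⟨zz C, zz_mem C wt⟩

variable {C wt cR} (H : Ok C wt cR)
include H

theorem step_inv {x : ℕ} (hx : x < P.k) : Function.Involutive (step C wt x) := by
  rintro ⟨d, i⟩
  have hx' : x < C.D.k := C.hk.symm ▸ hx
  obtain ⟨r, hr, he, hc⟩ := H.square x hx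
  have hs := H.sums r hr d d.2
  rw [he, hc] at hs
  simp only [sumW, Nat.zero_add] at hs
  refine Prod.ext ?_ ?_
  · have := congrArg (fun g : Equiv.Perm (Fin C.T.n) => g d) (C.perm_sq x)
    simpa [step] using this
  · show i + (wt x (d : ℕ) : ZMod 3) + (wt x ((C.perm x d : Fin C.T.n) : ℕ) : ZMod 3) = i
    rw [C.perm_val hx', add_assoc, ← Nat.cast_add,
      (ZMod.natCast_mod _ 3).symm.trans (by rw [hs, Nat.cast_zero]), add_zero]

theorem tau_apply {x : ℕ} (hx : x < P.k) (p : Pts C) : tau C wt x p = step C wt x p := by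
  rw [tau, dif_pos ⟨hx, step_inv H hx⟩]
  rfl

theorem run_apply : ∀ (w : List ℕ), (∀ x ∈ w, x < P.k) → ∀ (d : Fin C.T.n) (i : ZMod 3) (s : ℕ),
    (((w.reverse.map (tau C wt)).prod (d, i + (s : ZMod 3))).1 : ℕ) =
        CosetEnum.run (fun x e => C.T.act C.D.k e x) w (d : ℕ) ∧
      ((w.reverse.map (tau C wt)).prod (d, i + (s : ZMod 3))).2 = i + (sumW C wt w (d : ℕ) s : ZMod 3) := by
  intro w
  induction w with
  | nil => intro _ d i s; simp [CosetEnum.run, sumW]
  | cons x w ih =>
    intro hw d i s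
    have hx := hw x List.mem_cons_self
    have hx' : x < C.D.k := C.hk.symm ▸ hx
    rw [List.reverse_cons, List.map_append, List.prod_append, List.map_singleton, List.prod_singleton,
      Equiv.Perm.mul_apply, tau_apply H hx]
    obtain ⟨h1, h2⟩ := ih (fun y hy => hw y (List.mem_cons_of_mem _ hy)) (C.perm x d) i (s + wt x (d : ℕ))
    rw [Nat.cast_add, ← add_assoc] at h1 h2
    rw [C.perm_val hx'] at h1 h2
    exact ⟨h1, h2⟩

theorem rel_value {i : ℕ} (hi : i < P.rels.length) :
    (((P.rels.getD i []).reverse).map (tau C wt)).prod = shift C (cR.getD i 0 : ZMod 3) := by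
  refine Equiv.ext fun ⟨d, j⟩ => ?_
  have hmem : P.rels.getD i [] ∈ P.rels := by rw [List.getD_eq_getElem _ _ hi]; exact List.getElem_mem hi
  obtain ⟨h1, h2⟩ := run_apply H _ (H.letters _ hmem) d j 0
  simp only [Nat.cast_zero, add_zero] at h1 h2
  refine Prod.ext (Fin.ext ?_) ?_
  · rw [h1]; exact (C.points_ok d d.2).2.1 _ hmem
  · rw [h2, ← ZMod.natCast_mod (sumW C wt _ (d : ℕ) 0) 3, H.sums i hi d d.2]
    rfl

theorem gg_sq (x : ℕ) : gg C wt x * gg C wt x = 1 := Prod.ext (P.σ_sq x) (tau_sq C wt x)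

theorem zz_cube : zz C ^ 3 = 1 := by
  refine Prod.ext (one_pow 3) (Equiv.ext fun ⟨d, j⟩ => Prod.ext rfl ?_)
  show j + 1 + 1 + 1 = j
  rw [add_assoc, add_assoc, show (1 : ZMod 3) + (1 + 1) = 0 by decide, add_zero]

theorem zz_comm {g : Amb C} (hg : g ∈ Cov C wt) : Commute g (zz C) := by
  refine Subgroup.closure_induction (p := fun g _ => Commute g (zz C)) ?_ (Commute.one_left _)
    (fun _ _ _ _ a b => a.mul_left b) (fun _ _ a => a.inv_left) hg
  rintro g (⟨x, rfl⟩ | rfl)
  · refine Prod.ext ((mul_one _).trans (one_mul _).symm) (Equiv.ext fun ⟨d, j⟩ => ?_)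
    show tau C wt x (shift C 1 (d, j)) = shift C 1 (tau C wt x (d, j))
    by_cases hx : x < P.k
    · rw [tau_apply H hx, tau_apply H hx]
      refine Prod.ext rfl ?_
      show j + 1 + _ = j + _ + 1
      exact add_right_comm _ _ _
    · rw [tau, dif_neg fun h => hx h.1]
      rfl
  · exact Commute.refl _

theorem rel_gg {i : ℕ} (hi : i < P.rels.length) :
    ((P.rels.getD i []).map (gg C wt)).prod = ((1, shift C (cR.getD i 0 : ZMod 3)) : Amb C)⁻¹ := by
  have h := prod_reverse_inv (gg C wt) (gg_sq H) (P.rels.getD i []).reverse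
  rw [List.reverse_reverse] at h
  rw [h]
  refine congrArg _ (Prod.ext ?_ ?_)
  · have := map_list_prod (MonoidHom.fst P.Grp (Equiv.Perm (Pts C))) ((P.rels.getD i []).reverse.map (gg C wt))
    rw [List.map_map] at this
    refine this.trans ?_
    show ((P.rels.getD i []).reverse.map P.σ).prod = 1
    rw [prod_reverse_inv P.σ P.σ_sq, P.rels_one (by rw [List.getD_eq_getElem _ _ hi]; exact List.getElem_mem hi),
      inv_one]
  · have := map_list_prod (MonoidHom.snd P.Grp (Equiv.Perm (Pts C))) ((P.rels.getD i []).reverse.map (gg C wt))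
    rw [List.map_map] at this
    exact this.trans (rel_value H hi)

theorem shift_eq (k : ℕ) : ((1, shift C (k : ZMod 3)) : Amb C) = zz C ^ k := by
  induction k with
  | zero => exact Prod.ext rfl (Equiv.ext fun ⟨d, j⟩ => Prod.ext rfl (by show j + ((0 : ℕ) : ZMod 3) = j; simp))
  | succ k ih =>
    rw [pow_succ, ← ih]
    refine Prod.ext (one_mul _).symm (Equiv.ext fun ⟨d, j⟩ => Prod.ext rfl ?_)
    show j + ((k + 1 : ℕ) : ZMod 3) = j + 1 + (k : ZMod 3)
    push_cast; ring

theorem zc_central : zc C wt ∈ Subgroup.center (Cov C wt) :=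
  Subgroup.mem_center_iff.mpr fun g => Subtype.ext (zz_comm H g.2)

theorem proj_ker : (proj C wt).ker = Subgroup.zpowers (zc C wt) := by
  classical
  have hle : Subgroup.zpowers (zc C wt) ≤ Subgroup.center (Cov C wt) := Subgroup.zpowers_le.mpr (zc_central H)
  haveI : (Subgroup.zpowers (zc C wt)).Normal :=
    ⟨fun n hn g => by rwa [Subgroup.mem_center_iff.mp (hle hn) g, mul_inv_cancel_right]⟩
  let τ : ℕ → Cov C wt ⧸ Subgroup.zpowers (zc C wt) := fun x => QuotientGroup.mk' _ ⟨gg C wt x, gg_mem C wt x⟩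
  have hτ : ∀ x, τ x * τ x = 1 := fun x => by
    rw [← map_mul]
    rw [show (⟨gg C wt x, gg_mem C wt x⟩ * ⟨gg C wt x, gg_mem C wt x⟩ : Cov C wt) = 1 from Subtype.ext (gg_sq H x), map_one]
  have hrel : ∀ w ∈ P.rels, (w.map τ).prod = 1 := by
    intro w hw
    obtain ⟨i, hi, rfl⟩ := List.getElem_of_mem hw
    have e : (P.rels[i].map τ).prod =
        QuotientGroup.mk' (Subgroup.zpowers (zc C wt)) (P.rels[i].map fun x => (⟨gg C wt x, gg_mem C wt x⟩ : Cov C wt)).prod := by
      rw [map_list_prod, List.map_map]; rfl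
    rw [e]
    refine (QuotientGroup.eq_one_iff _).mpr ⟨-(cR.getD i 0 : ℤ), Subtype.ext ?_⟩
    show zz C ^ (-(cR.getD i 0 : ℤ)) = ((Cov C wt).subtype (P.rels[i].map fun x => (⟨gg C wt x, gg_mem C wt x⟩ : Cov C wt)).prod)
    rw [map_list_prod, List.map_map, show ((Cov C wt).subtype ∘ fun x => (⟨gg C wt x, gg_mem C wt x⟩ : Cov C wt)) = gg C wt from rfl,
      ← List.getD_eq_getElem P.rels [] hi, rel_gg H hi, shift_eq H, zpow_neg, zpow_natCast]
  let ψ : P.Grp →* Cov C wt ⧸ Subgroup.zpowers (zc C wt) := PresentedGroup.toGroup (f := τ ∘ P.idx) (P.lift_rel hτ hrel)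
  have key : ∀ g (hg : g ∈ Cov C wt), ψ g.1 = QuotientGroup.mk' _ (⟨g, hg⟩ : Cov C wt) := by
    intro g hg
    refine Subgroup.closure_induction (p := fun g hg => ψ g.1 = QuotientGroup.mk' _ (⟨g, hg⟩ : Cov C wt)) ?_ ?_ ?_ ?_ hg
    · rintro g (⟨x, rfl⟩ | rfl)
      · by_cases hx : x < P.k
        · show ψ (P.σ x) = _
          rw [Pres.σ, if_pos hx]
          refine (PresentedGroup.toGroup.of _).trans ?_
          show τ (P.idx (P.gen x)) = _
          rw [H.numbered x hx]
        · have e : gg C wt x = 1 := Prod.ext (by show P.σ x = 1; rw [Pres.σ, if_neg hx])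
            (by show tau C wt x = 1; rw [tau, dif_neg fun h => hx h.1])
          show ψ (gg C wt x).1 = _
          rw [show (gg C wt x).1 = 1 from congrArg Prod.fst e, map_one]
          refine ((QuotientGroup.eq_one_iff _).mpr ?_).symm
          rw [show (⟨gg C wt x, gg_mem C wt x⟩ : Cov C wt) = 1 from Subtype.ext e]
          exact one_mem _
      · exact (map_one ψ).trans ((QuotientGroup.eq_one_iff _).mpr (Subgroup.mem_zpowers (zc C wt))).symm
    · exact (map_one ψ).trans (map_one (QuotientGroup.mk' (Subgroup.zpowers (zc C wt)))).symm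
    · intro a b ha hb e1 e2
      show ψ (a.1 * b.1) = _
      rw [map_mul, e1, e2, ← map_mul]; rfl
    · intro a ha e1
      show ψ (a.1⁻¹) = _
      rw [map_inv, e1, ← map_inv]; rfl
  refine le_antisymm (fun g hg => ?_) (Subgroup.zpowers_le.mpr rfl)
  have h := key g g.2
  rw [show (g : Amb C).1 = 1 from hg, map_one] at h
  exact (QuotientGroup.eq_one_iff _).mp h.symm

theorem proj_surjective : Function.Surjective (proj C wt) := by
  rw [← MonoidHom.range_eq_top, eq_top_iff, ← PresentedGroup.closure_range_of P.relSet, Subgroup.closure_le]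
  rintro _ ⟨a, rfl⟩
  exact ⟨⟨gg C wt (P.idx a), gg_mem C wt _⟩, P.σ_idx a⟩

theorem orderOf_zc : orderOf (zc C wt) = 3 := by
  haveI := Fact.mk Nat.prime_three
  refine orderOf_eq_prime (Subtype.ext (zz_cube H)) fun h => ?_
  have e := congrArg (fun g : Equiv.Perm (Pts C) => (g (⟨0, C.hn⟩, 0)).2) (congrArg Prod.snd (congrArg Subtype.val h))
  change (0 : ZMod 3) + 1 = 0 at e
  exact one_ne_zero ((zero_add (1 : ZMod 3)).symm.trans e)

theorem zc_mem_commutator : zc C wt ∈ commutator (Cov C wt) := by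
  obtain ⟨i, hi, hc⟩ := H.value
  set a := Abelianization.of (G := Cov C wt) with ha
  let A : ℕ → Abelianization (Cov C wt) := fun x => a ⟨gg C wt x, gg_mem C wt x⟩
  have hA : ∀ x, A x * A x = 1 := fun x => by
    show a _ * a _ = 1
    rw [← map_mul, show (⟨gg C wt x, gg_mem C wt x⟩ * ⟨gg C wt x, gg_mem C wt x⟩ : Cov C wt) = 1 from
      Subtype.ext (gg_sq H x), map_one]
  have he : ((P.rels.getD i []).map fun x => (⟨gg C wt x, gg_mem C wt x⟩ : Cov C wt)).prod = (zc C wt)⁻¹ := by
    refine Subtype.ext ?_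
    show (Cov C wt).subtype _ = (zz C)⁻¹
    rw [map_list_prod, List.map_map, show ((Cov C wt).subtype ∘ fun x => (⟨gg C wt x, gg_mem C wt x⟩ : Cov C wt)) =
      gg C wt from rfl, rel_gg H hi, hc, shift_eq H, pow_one]
  have hsq : ∀ l : List ℕ, (l.map A).prod * (l.map A).prod = 1 := by
    intro l
    induction l with
    | nil => simp
    | cons x l ih => rw [List.map_cons, List.prod_cons, mul_mul_mul_comm, hA, ih, one_mul]
  have h2 : a (zc C wt) ^ 2 = 1 := by
    have h := hsq (P.rels.getD i [])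
    have e : ((P.rels.getD i []).map A).prod = (a (zc C wt))⁻¹ := by
      rw [← map_inv, ← he, map_list_prod, List.map_map]; rfl
    rw [e, ← mul_inv, inv_eq_one] at h
    rw [pow_two]; exact h
  have h3 : a (zc C wt) ^ 3 = 1 := by
    rw [← map_pow, show zc C wt ^ 3 = 1 from Subtype.ext (zz_cube H), map_one]
  have h1 : a (zc C wt) = 1 := by
    rw [pow_succ, h2, one_mul] at h3; exact h3
  rw [← Abelianization.ker_of]
  exact h1

/-- A stem extension with kernel of order three. -/
theorem exists_cover [Finite P.Grp] : ∃ (Γ : Type) (_ : Group Γ) (_ : Finite Γ) (σ : Γ →* P.Grp),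
    Cfsg.IsStemExtension σ ∧ Nat.card σ.ker = 3 := by
  refine ⟨Cov C wt, inferInstance, inferInstance, proj C wt, ⟨proj_surjective H, ?_, ?_⟩, ?_⟩
  · rw [proj_ker H]; exact Subgroup.zpowers_le.mpr (zc_central H)
  · rw [proj_ker H]; exact Subgroup.zpowers_le.mpr (zc_mem_commutator H)
  · rw [proj_ker H, Nat.card_zpowers, orderOf_zc H]

end CfsgLib.ONMult.Monomial
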