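/-
Checks of weights modulo three on the action of the O'Nan group on 122760 points.
-/
import Cfsg.Agent.Lib.CosetEnum.ON122760.Data
import Cfsg.Agent.Lib.ONMult.WData

set_option autoImplicit false
set_option maxRecDepth 1000000

namespace CfsgLib.ONMult

open CfsgLib.CosetEnum CfsgLib.CosetEnum.ON122760

/-- The weight of a generator at a point. -/
noncomputable def wAt (x d : ℕ) : ℕ :=
  fld (entry wTree (nat_lit 64) (nat_lit 14) d) (Nat.mul (nat_lit 2) x) (nat_lit 2)

/-- The weight of a word at a point, added to `s`. -/
noncomputable def runW (w : List ℕ) : ℕ → ℕ → ℕ :=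
  List.rec (motive := fun _ => ℕ → ℕ → ℕ) (fun _ s => s)
    (fun x _ ih d s => force (table.act 7 d x) fun d' => force (Nat.add s (wAt x d)) fun s' => ih d' s') w

/-- The relators have the prescribed weights at a point. -/
noncomputable def okW (d : ℕ) : Bool :=
  List.rec (motive := fun _ => List ℕ → Bool) (fun _ => true)
    (fun w _ ih cs => Nat.beq (Nat.mod (runW w d (nat_lit 0)) (nat_lit 3)) (cs.headD (nat_lit 0)) && ih cs.tail)
    rels wRel

/-- The relators have the prescribed weights at `m` points from `lo`. -/
noncomputable def okWs (lo m : ℕ) : Bool := allN m fun i => force (Nat.add lo i) okW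

end CfsgLib.ONMult
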