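/-
Checks of the weights on some of the points.
-/
import Cfsg.Agent.Lib.ONMult.WDefs

set_option autoImplicit false
set_option maxRecDepth 1000000

namespace CfsgLib.ONMult

theorem wchk0_ok : okWs 0 500 = true := by decide +kernel

theorem wchk1_ok : okWs 500 500 = true := by decide +kernel

theorem wchk2_ok : okWs 1000 500 = true := by decide +kernel

theorem wchk3_ok : okWs 1500 500 = true := by decide +kernel

theorem wchk4_ok : okWs 2000 500 = true := by decide +kernel

theorem wchk5_ok : okWs 2500 500 = true := by decide +kernel

theorem wchk6_ok : okWs 3000 500 = true := by decide +kernel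

theorem wchk7_ok : okWs 3500 500 = true := by decide +kernel

end CfsgLib.ONMult
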