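/-
Checks of the weights on some of the points.
-/
import Cfsg.Agent.Lib.ONMult.WDefs

set_option autoImplicit false
set_option maxRecDepth 1000000

namespace CfsgLib.ONMult

theorem wchk8_ok : okWs 4000 500 = true := by decide +kernel

theorem wchk9_ok : okWs 4500 500 = true := by decide +kernel

theorem wchk10_ok : okWs 5000 500 = true := by decide +kernel

theorem wchk11_ok : okWs 5500 500 = true := by decide +kernel

theorem wchk12_ok : okWs 6000 500 = true := by decide +kernel

theorem wchk13_ok : okWs 6500 500 = true := by decide +kernel

theorem wchk14_ok : okWs 7000 500 = true := by decide +kernel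

theorem wchk15_ok : okWs 7500 500 = true := by decide +kernel

end CfsgLib.ONMult
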