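/-
Checks of the weights on some of the points.
-/
import Cfsg.Agent.Lib.ONMult.WDefs

set_option autoImplicit false
set_option maxRecDepth 1000000

namespace CfsgLib.ONMult

theorem wchk80_ok : okWs 40000 500 = true := by decide +kernel

theorem wchk81_ok : okWs 40500 500 = true := by decide +kernel

theorem wchk82_ok : okWs 41000 500 = true := by decide +kernel

theorem wchk83_ok : okWs 41500 500 = true := by decide +kernel

theorem wchk84_ok : okWs 42000 500 = true := by decide +kernel

theorem wchk85_ok : okWs 42500 500 = true := by decide +kernel

theorem wchk86_ok : okWs 43000 500 = true := by decide +kernel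

theorem wchk87_ok : okWs 43500 500 = true := by decide +kernel

end CfsgLib.ONMult
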