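/-
Checks of the weights on some of the points.
-/
import Cfsg.Agent.Lib.ONMult.WDefs

set_option autoImplicit false
set_option maxRecDepth 1000000

namespace CfsgLib.ONMult

theorem wchk88_ok : okWs 44000 500 = true := by decide +kernel

theorem wchk89_ok : okWs 44500 500 = true := by decide +kernel

theorem wchk90_ok : okWs 45000 500 = true := by decide +kernel

theorem wchk91_ok : okWs 45500 500 = true := by decide +kernel

theorem wchk92_ok : okWs 46000 500 = true := by decide +kernel

theorem wchk93_ok : okWs 46500 500 = true := by decide +kernel

theorem wchk94_ok : okWs 47000 500 = true := by decide +kernel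

theorem wchk95_ok : okWs 47500 500 = true := by decide +kernel

end CfsgLib.ONMult
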