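/-
Checks of the weights on some of the points.
-/
import Cfsg.Agent.Lib.ONMult.WDefs

set_option autoImplicit false
set_option maxRecDepth 1000000

namespace CfsgLib.ONMult

theorem wchk104_ok : okWs 52000 500 = true := by decide +kernel

theorem wchk105_ok : okWs 52500 500 = true := by decide +kernel

theorem wchk106_ok : okWs 53000 500 = true := by decide +kernel

theorem wchk107_ok : okWs 53500 500 = true := by decide +kernel

theorem wchk108_ok : okWs 54000 500 = true := by decide +kernel

theorem wchk109_ok : okWs 54500 500 = true := by decide +kernel

theorem wchk110_ok : okWs 55000 500 = true := by decide +kernel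

theorem wchk111_ok : okWs 55500 500 = true := by decide +kernel

end CfsgLib.ONMult
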