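/-
Checks of the weights on some of the points.
-/
import Cfsg.Agent.Lib.ONMult.WDefs

set_option autoImplicit false
set_option maxRecDepth 1000000

namespace CfsgLib.ONMult

theorem wchk112_ok : okWs 56000 500 = true := by decide +kernel

theorem wchk113_ok : okWs 56500 500 = true := by decide +kernel

theorem wchk114_ok : okWs 57000 500 = true := by decide +kernel

theorem wchk115_ok : okWs 57500 500 = true := by decide +kernel

theorem wchk116_ok : okWs 58000 500 = true := by decide +kernel

theorem wchk117_ok : okWs 58500 500 = true := by decide +kernel

theorem wchk118_ok : okWs 59000 500 = true := by decide +kernel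

theorem wchk119_ok : okWs 59500 500 = true := by decide +kernel

end CfsgLib.ONMult
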