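/-
Checks of the weights on some of the points.
-/
import Cfsg.Agent.Lib.ONMult.WDefs

set_option autoImplicit false
set_option maxRecDepth 1000000

namespace CfsgLib.ONMult

theorem wchk120_ok : okWs 60000 500 = true := by decide +kernel

theorem wchk121_ok : okWs 60500 500 = true := by decide +kernel

theorem wchk122_ok : okWs 61000 500 = true := by decide +kernel

theorem wchk123_ok : okWs 61500 500 = true := by decide +kernel

theorem wchk124_ok : okWs 62000 500 = true := by decide +kernel

theorem wchk125_ok : okWs 62500 500 = true := by decide +kernel

theorem wchk126_ok : okWs 63000 500 = true := by decide +kernel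

theorem wchk127_ok : okWs 63500 500 = true := by decide +kernel

end CfsgLib.ONMult
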