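/-
Checks of the weights on some of the points.
-/
import Cfsg.Agent.Lib.ONMult.WDefs

set_option autoImplicit false
set_option maxRecDepth 1000000

namespace CfsgLib.ONMult

theorem wchk128_ok : okWs 64000 500 = true := by decide +kernel

theorem wchk129_ok : okWs 64500 500 = true := by decide +kernel

theorem wchk130_ok : okWs 65000 500 = true := by decide +kernel

theorem wchk131_ok : okWs 65500 500 = true := by decide +kernel

theorem wchk132_ok : okWs 66000 500 = true := by decide +kernel

theorem wchk133_ok : okWs 66500 500 = true := by decide +kernel

theorem wchk134_ok : okWs 67000 500 = true := by decide +kernel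

theorem wchk135_ok : okWs 67500 500 = true := by decide +kernel

end CfsgLib.ONMult
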