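/-
Checks of the weights on some of the points.
-/
import Cfsg.Agent.Lib.ONMult.WDefs

set_option autoImplicit false
set_option maxRecDepth 1000000

namespace CfsgLib.ONMult

theorem wchk136_ok : okWs 68000 500 = true := by decide +kernel

theorem wchk137_ok : okWs 68500 500 = true := by decide +kernel

theorem wchk138_ok : okWs 69000 500 = true := by decide +kernel

theorem wchk139_ok : okWs 69500 500 = true := by decide +kernel

theorem wchk140_ok : okWs 70000 500 = true := by decide +kernel

theorem wchk141_ok : okWs 70500 500 = true := by decide +kernel

theorem wchk142_ok : okWs 71000 500 = true := by decide +kernel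

theorem wchk143_ok : okWs 71500 500 = true := by decide +kernel

end CfsgLib.ONMult
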