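/-
Checks of the weights on some of the points.
-/
import Cfsg.Agent.Lib.ONMult.WDefs

set_option autoImplicit false
set_option maxRecDepth 1000000

namespace CfsgLib.ONMult

theorem wchk144_ok : okWs 72000 500 = true := by decide +kernel

theorem wchk145_ok : okWs 72500 500 = true := by decide +kernel

theorem wchk146_ok : okWs 73000 500 = true := by decide +kernel

theorem wchk147_ok : okWs 73500 500 = true := by decide +kernel

theorem wchk148_ok : okWs 74000 500 = true := by decide +kernel

theorem wchk149_ok : okWs 74500 500 = true := by decide +kernel

theorem wchk150_ok : okWs 75000 500 = true := by decide +kernel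

theorem wchk151_ok : okWs 75500 500 = true := by decide +kernel

end CfsgLib.ONMult
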