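/-
Checks of the weights on some of the points.
-/
import Cfsg.Agent.Lib.ONMult.WDefs

set_option autoImplicit false
set_option maxRecDepth 1000000

namespace CfsgLib.ONMult

theorem wchk152_ok : okWs 76000 500 = true := by decide +kernel

theorem wchk153_ok : okWs 76500 500 = true := by decide +kernel

theorem wchk154_ok : okWs 77000 500 = true := by decide +kernel

theorem wchk155_ok : okWs 77500 500 = true := by decide +kernel

theorem wchk156_ok : okWs 78000 500 = true := by decide +kernel

theorem wchk157_ok : okWs 78500 500 = true := by decide +kernel

theorem wchk158_ok : okWs 79000 500 = true := by decide +kernel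

theorem wchk159_ok : okWs 79500 500 = true := by decide +kernel

end CfsgLib.ONMult
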