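/-
Checks of the weights on some of the points.
-/
import Cfsg.Agent.Lib.ONMult.WDefs

set_option autoImplicit false
set_option maxRecDepth 1000000

namespace CfsgLib.ONMult

theorem wchk16_ok : okWs 8000 500 = true := by decide +kernel

theorem wchk17_ok : okWs 8500 500 = true := by decide +kernel

theorem wchk18_ok : okWs 9000 500 = true := by decide +kernel

theorem wchk19_ok : okWs 9500 500 = true := by decide +kernel

theorem wchk20_ok : okWs 10000 500 = true := by decide +kernel

theorem wchk21_ok : okWs 10500 500 = true := by decide +kernel

theorem wchk22_ok : okWs 11000 500 = true := by decide +kernel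

theorem wchk23_ok : okWs 11500 500 = true := by decide +kernel

end CfsgLib.ONMult
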