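/-
Checks of the weights on some of the points.
-/
import Cfsg.Agent.Lib.ONMult.WDefs

set_option autoImplicit false
set_option maxRecDepth 1000000

namespace CfsgLib.ONMult

theorem wchk160_ok : okWs 80000 500 = true := by decide +kernel

theorem wchk161_ok : okWs 80500 500 = true := by decide +kernel

theorem wchk162_ok : okWs 81000 500 = true := by decide +kernel

theorem wchk163_ok : okWs 81500 500 = true := by decide +kernel

theorem wchk164_ok : okWs 82000 500 = true := by decide +kernel

theorem wchk165_ok : okWs 82500 500 = true := by decide +kernel

theorem wchk166_ok : okWs 83000 500 = true := by decide +kernel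

theorem wchk167_ok : okWs 83500 500 = true := by decide +kernel

end CfsgLib.ONMult
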