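/-
Checks of the weights on some of the points.
-/
import Cfsg.Agent.Lib.ONMult.WDefs

set_option autoImplicit false
set_option maxRecDepth 1000000

namespace CfsgLib.ONMult

theorem wchk168_ok : okWs 84000 500 = true := by decide +kernel

theorem wchk169_ok : okWs 84500 500 = true := by decide +kernel

theorem wchk170_ok : okWs 85000 500 = true := by decide +kernel

theorem wchk171_ok : okWs 85500 500 = true := by decide +kernel

theorem wchk172_ok : okWs 86000 500 = true := by decide +kernel

theorem wchk173_ok : okWs 86500 500 = true := by decide +kernel

theorem wchk174_ok : okWs 87000 500 = true := by decide +kernel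

theorem wchk175_ok : okWs 87500 500 = true := by decide +kernel

end CfsgLib.ONMult
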