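/-
Checks of the weights on some of the points.
-/
import Cfsg.Agent.Lib.ONMult.WDefs

set_option autoImplicit false
set_option maxRecDepth 1000000

namespace CfsgLib.ONMult

theorem wchk176_ok : okWs 88000 500 = true := by decide +kernel

theorem wchk177_ok : okWs 88500 500 = true := by decide +kernel

theorem wchk178_ok : okWs 89000 500 = true := by decide +kernel

theorem wchk179_ok : okWs 89500 500 = true := by decide +kernel

theorem wchk180_ok : okWs 90000 500 = true := by decide +kernel

theorem wchk181_ok : okWs 90500 500 = true := by decide +kernel

theorem wchk182_ok : okWs 91000 500 = true := by decide +kernel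

theorem wchk183_ok : okWs 91500 500 = true := by decide +kernel

end CfsgLib.ONMult
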