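/-
Checks of the weights on some of the points.
-/
import Cfsg.Agent.Lib.ONMult.WDefs

set_option autoImplicit false
set_option maxRecDepth 1000000

namespace CfsgLib.ONMult

theorem wchk184_ok : okWs 92000 500 = true := by decide +kernel

theorem wchk185_ok : okWs 92500 500 = true := by decide +kernel

theorem wchk186_ok : okWs 93000 500 = true := by decide +kernel

theorem wchk187_ok : okWs 93500 500 = true := by decide +kernel

theorem wchk188_ok : okWs 94000 500 = true := by decide +kernel

theorem wchk189_ok : okWs 94500 500 = true := by decide +kernel

theorem wchk190_ok : okWs 95000 500 = true := by decide +kernel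

theorem wchk191_ok : okWs 95500 500 = true := by decide +kernel

end CfsgLib.ONMult
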