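/-
Checks of the weights on some of the points.
-/
import Cfsg.Agent.Lib.ONMult.WDefs

set_option autoImplicit false
set_option maxRecDepth 1000000

namespace CfsgLib.ONMult

theorem wchk192_ok : okWs 96000 500 = true := by decide +kernel

theorem wchk193_ok : okWs 96500 500 = true := by decide +kernel

theorem wchk194_ok : okWs 97000 500 = true := by decide +kernel

theorem wchk195_ok : okWs 97500 500 = true := by decide +kernel

theorem wchk196_ok : okWs 98000 500 = true := by decide +kernel

theorem wchk197_ok : okWs 98500 500 = true := by decide +kernel

theorem wchk198_ok : okWs 99000 500 = true := by decide +kernel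

theorem wchk199_ok : okWs 99500 500 = true := by decide +kernel

end CfsgLib.ONMult
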