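/-
Checks of the weights on some of the points.
-/
import Cfsg.Agent.Lib.ONMult.WDefs

set_option autoImplicit false
set_option maxRecDepth 1000000

namespace CfsgLib.ONMult

theorem wchk200_ok : okWs 100000 500 = true := by decide +kernel

theorem wchk201_ok : okWs 100500 500 = true := by decide +kernel

theorem wchk202_ok : okWs 101000 500 = true := by decide +kernel

theorem wchk203_ok : okWs 101500 500 = true := by decide +kernel

theorem wchk204_ok : okWs 102000 500 = true := by decide +kernel

theorem wchk205_ok : okWs 102500 500 = true := by decide +kernel

theorem wchk206_ok : okWs 103000 500 = true := by decide +kernel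

theorem wchk207_ok : okWs 103500 500 = true := by decide +kernel

end CfsgLib.ONMult
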