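/-
Checks of the weights on some of the points.
-/
import Cfsg.Agent.Lib.ONMult.WDefs

set_option autoImplicit false
set_option maxRecDepth 1000000

namespace CfsgLib.ONMult

theorem wchk216_ok : okWs 108000 500 = true := by decide +kernel

theorem wchk217_ok : okWs 108500 500 = true := by decide +kernel

theorem wchk218_ok : okWs 109000 500 = true := by decide +kernel

theorem wchk219_ok : okWs 109500 500 = true := by decide +kernel

theorem wchk220_ok : okWs 110000 500 = true := by decide +kernel

theorem wchk221_ok : okWs 110500 500 = true := by decide +kernel

theorem wchk222_ok : okWs 111000 500 = true := by decide +kernel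

theorem wchk223_ok : okWs 111500 500 = true := by decide +kernel

end CfsgLib.ONMult
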