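/-
Checks of the weights on some of the points.
-/
import Cfsg.Agent.Lib.ONMult.WDefs

set_option autoImplicit false
set_option maxRecDepth 1000000

namespace CfsgLib.ONMult

theorem wchk224_ok : okWs 112000 500 = true := by decide +kernel

theorem wchk225_ok : okWs 112500 500 = true := by decide +kernel

theorem wchk226_ok : okWs 113000 500 = true := by decide +kernel

theorem wchk227_ok : okWs 113500 500 = true := by decide +kernel

theorem wchk228_ok : okWs 114000 500 = true := by decide +kernel

theorem wchk229_ok : okWs 114500 500 = true := by decide +kernel

theorem wchk230_ok : okWs 115000 500 = true := by decide +kernel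

theorem wchk231_ok : okWs 115500 500 = true := by decide +kernel

end CfsgLib.ONMult
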