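/-
Checks of the weights on some of the points.
-/
import Cfsg.Agent.Lib.ONMult.WDefs

set_option autoImplicit false
set_option maxRecDepth 1000000

namespace CfsgLib.ONMult

theorem wchk232_ok : okWs 116000 500 = true := by decide +kernel

theorem wchk233_ok : okWs 116500 500 = true := by decide +kernel

theorem wchk234_ok : okWs 117000 500 = true := by decide +kernel

theorem wchk235_ok : okWs 117500 500 = true := by decide +kernel

theorem wchk236_ok : okWs 118000 500 = true := by decide +kernel

theorem wchk237_ok : okWs 118500 500 = true := by decide +kernel

theorem wchk238_ok : okWs 119000 500 = true := by decide +kernel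

theorem wchk239_ok : okWs 119500 500 = true := by decide +kernel

end CfsgLib.ONMult
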