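/-
Checks of the weights on some of the points.
-/
import Cfsg.Agent.Lib.ONMult.WDefs

set_option autoImplicit false
set_option maxRecDepth 1000000

namespace CfsgLib.ONMult

theorem wchk24_ok : okWs 12000 500 = true := by decide +kernel

theorem wchk25_ok : okWs 12500 500 = true := by decide +kernel

theorem wchk26_ok : okWs 13000 500 = true := by decide +kernel

theorem wchk27_ok : okWs 13500 500 = true := by decide +kernel

theorem wchk28_ok : okWs 14000 500 = true := by decide +kernel

theorem wchk29_ok : okWs 14500 500 = true := by decide +kernel

theorem wchk30_ok : okWs 15000 500 = true := by decide +kernel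

theorem wchk31_ok : okWs 15500 500 = true := by decide +kernel

end CfsgLib.ONMult
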