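/-
Checks of the weights on some of the points.
-/
import Cfsg.Agent.Lib.ONMult.WDefs

set_option autoImplicit false
set_option maxRecDepth 1000000

namespace CfsgLib.ONMult

theorem wchk240_ok : okWs 120000 500 = true := by decide +kernel

theorem wchk241_ok : okWs 120500 500 = true := by decide +kernel

theorem wchk242_ok : okWs 121000 500 = true := by decide +kernel

theorem wchk243_ok : okWs 121500 500 = true := by decide +kernel

theorem wchk244_ok : okWs 122000 500 = true := by decide +kernel

theorem wchk245_ok : okWs 122500 260 = true := by decide +kernel

end CfsgLib.ONMult
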