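/-
Checks of the weights on some of the points.
-/
import Cfsg.Agent.Lib.ONMult.WDefs

set_option autoImplicit false
set_option maxRecDepth 1000000

namespace CfsgLib.ONMult

theorem wchk32_ok : okWs 16000 500 = true := by decide +kernel

theorem wchk33_ok : okWs 16500 500 = true := by decide +kernel

theorem wchk34_ok : okWs 17000 500 = true := by decide +kernel

theorem wchk35_ok : okWs 17500 500 = true := by decide +kernel

theorem wchk36_ok : okWs 18000 500 = true := by decide +kernel

theorem wchk37_ok : okWs 18500 500 = true := by decide +kernel

theorem wchk38_ok : okWs 19000 500 = true := by decide +kernel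

theorem wchk39_ok : okWs 19500 500 = true := by decide +kernel

end CfsgLib.ONMult
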