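/-
Checks of the weights on some of the points.
-/
import Cfsg.Agent.Lib.ONMult.WDefs

set_option autoImplicit false
set_option maxRecDepth 1000000

namespace CfsgLib.ONMult

theorem wchk40_ok : okWs 20000 500 = true := by decide +kernel

theorem wchk41_ok : okWs 20500 500 = true := by decide +kernel

theorem wchk42_ok : okWs 21000 500 = true := by decide +kernel

theorem wchk43_ok : okWs 21500 500 = true := by decide +kernel

theorem wchk44_ok : okWs 22000 500 = true := by decide +kernel

theorem wchk45_ok : okWs 22500 500 = true := by decide +kernel

theorem wchk46_ok : okWs 23000 500 = true := by decide +kernel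

theorem wchk47_ok : okWs 23500 500 = true := by decide +kernel

end CfsgLib.ONMult
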