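/-
Checks of the weights on some of the points.
-/
import Cfsg.Agent.Lib.ONMult.WDefs

set_option autoImplicit false
set_option maxRecDepth 1000000

namespace CfsgLib.ONMult

theorem wchk48_ok : okWs 24000 500 = true := by decide +kernel

theorem wchk49_ok : okWs 24500 500 = true := by decide +kernel

theorem wchk50_ok : okWs 25000 500 = true := by decide +kernel

theorem wchk51_ok : okWs 25500 500 = true := by decide +kernel

theorem wchk52_ok : okWs 26000 500 = true := by decide +kernel

theorem wchk53_ok : okWs 26500 500 = true := by decide +kernel

theorem wchk54_ok : okWs 27000 500 = true := by decide +kernel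

theorem wchk55_ok : okWs 27500 500 = true := by decide +kernel

end CfsgLib.ONMult
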