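/-
Checks of the weights on some of the points.
-/
import Cfsg.Agent.Lib.ONMult.WDefs

set_option autoImplicit false
set_option maxRecDepth 1000000

namespace CfsgLib.ONMult

theorem wchk56_ok : okWs 28000 500 = true := by decide +kernel

theorem wchk57_ok : okWs 28500 500 = true := by decide +kernel

theorem wchk58_ok : okWs 29000 500 = true := by decide +kernel

theorem wchk59_ok : okWs 29500 500 = true := by decide +kernel

theorem wchk60_ok : okWs 30000 500 = true := by decide +kernel

theorem wchk61_ok : okWs 30500 500 = true := by decide +kernel

theorem wchk62_ok : okWs 31000 500 = true := by decide +kernel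

theorem wchk63_ok : okWs 31500 500 = true := by decide +kernel

end CfsgLib.ONMult
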