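/-
Checks of the weights on some of the points.
-/
import Cfsg.Agent.Lib.ONMult.WDefs

set_option autoImplicit false
set_option maxRecDepth 1000000

namespace CfsgLib.ONMult

theorem wchk64_ok : okWs 32000 500 = true := by decide +kernel

theorem wchk65_ok : okWs 32500 500 = true := by decide +kernel

theorem wchk66_ok : okWs 33000 500 = true := by decide +kernel

theorem wchk67_ok : okWs 33500 500 = true := by decide +kernel

theorem wchk68_ok : okWs 34000 500 = true := by decide +kernel

theorem wchk69_ok : okWs 34500 500 = true := by decide +kernel

theorem wchk70_ok : okWs 35000 500 = true := by decide +kernel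

theorem wchk71_ok : okWs 35500 500 = true := by decide +kernel

end CfsgLib.ONMult
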