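/-
Checks of the weights on some of the points.
-/
import Cfsg.Agent.Lib.ONMult.WDefs

set_option autoImplicit false
set_option maxRecDepth 1000000

namespace CfsgLib.ONMult

theorem wchk72_ok : okWs 36000 500 = true := by decide +kernel

theorem wchk73_ok : okWs 36500 500 = true := by decide +kernel

theorem wchk74_ok : okWs 37000 500 = true := by decide +kernel

theorem wchk75_ok : okWs 37500 500 = true := by decide +kernel

theorem wchk76_ok : okWs 38000 500 = true := by decide +kernel

theorem wchk77_ok : okWs 38500 500 = true := by decide +kernel

theorem wchk78_ok : okWs 39000 500 = true := by decide +kernel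

theorem wchk79_ok : okWs 39500 500 = true := by decide +kernel

end CfsgLib.ONMult
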