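/-
The weights of the relators are constant on all points.
-/
import Cfsg.Agent.Lib.ONMult.WChecks0
import Cfsg.Agent.Lib.ONMult.WChecks1
import Cfsg.Agent.Lib.ONMult.WChecks2
import Cfsg.Agent.Lib.ONMult.WChecks3
import Cfsg.Agent.Lib.ONMult.WChecks4
import Cfsg.Agent.Lib.ONMult.WChecks5
import Cfsg.Agent.Lib.ONMult.WChecks6
import Cfsg.Agent.Lib.ONMult.WChecks7
import Cfsg.Agent.Lib.ONMult.WChecks8
import Cfsg.Agent.Lib.ONMult.WChecks9
import Cfsg.Agent.Lib.ONMult.WChecks10
import Cfsg.Agent.Lib.ONMult.WChecks11
import Cfsg.Agent.Lib.ONMult.WChecks12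
import Cfsg.Agent.Lib.ONMult.WChecks13
import Cfsg.Agent.Lib.ONMult.WChecks14
import Cfsg.Agent.Lib.ONMult.WChecks15
import Cfsg.Agent.Lib.ONMult.WChecks16
import Cfsg.Agent.Lib.ONMult.WChecks17
import Cfsg.Agent.Lib.ONMult.WChecks18
import Cfsg.Agent.Lib.ONMult.WChecks19
import Cfsg.Agent.Lib.ONMult.WChecks20
import Cfsg.Agent.Lib.ONMult.WChecks21
import Cfsg.Agent.Lib.ONMult.WChecks22
import Cfsg.Agent.Lib.ONMult.WChecks23
import Cfsg.Agent.Lib.ONMult.WChecks24
import Cfsg.Agent.Lib.ONMult.WChecks25
import Cfsg.Agent.Lib.ONMult.WChecks26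
import Cfsg.Agent.Lib.ONMult.WChecks27
import Cfsg.Agent.Lib.ONMult.WChecks28
import Cfsg.Agent.Lib.ONMult.WChecks29
import Cfsg.Agent.Lib.ONMult.WChecks30
import Cfsg.Agent.Lib.CosetEnum.Rows

set_option autoImplicit false
set_option maxRecDepth 1000000

namespace CfsgLib.ONMult

open CfsgLib.CosetEnum

theorem okWs_step {lo m : ℕ} (h : okWs lo m = true) (hlo : ∀ d < lo, okW d = true) : ∀ d < lo + m, okW d = true := by
  intro d hd
  by_cases hd' : d < lo
  · exact hlo d hd'
  · have := allN_spec (f := fun i => force (Nat.add lo i) okW) h (d - lo) (by omega)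
    rwa [force_eq, show Nat.add lo (d - lo) = d by show lo + (d - lo) = d; omega] at this

theorem okW_all : ∀ d < 122760, okW d = true := by
  have h0 : ∀ d < 0, okW d = true := fun d hd => absurd hd (Nat.not_lt_zero d)
  have h1 : ∀ d < 500, okW d = true := okWs_step wchk0_ok h0
  have h2 : ∀ d < 1000, okW d = true := okWs_step wchk1_ok h1
  have h3 : ∀ d < 1500, okW d = true := okWs_step wchk2_ok h2
  have h4 : ∀ d < 2000, okW d = true := okWs_step wchk3_ok h3
  have h5 : ∀ d < 2500, okW d = true := okWs_step wchk4_ok h4
  have h6 : ∀ d < 3000, okW d = true := okWs_step wchk5_ok h5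
  have h7 : ∀ d < 3500, okW d = true := okWs_step wchk6_ok h6
  have h8 : ∀ d < 4000, okW d = true := okWs_step wchk7_ok h7
  have h9 : ∀ d < 4500, okW d = true := okWs_step wchk8_ok h8
  have h10 : ∀ d < 5000, okW d = true := okWs_step wchk9_ok h9
  have h11 : ∀ d < 5500, okW d = true := okWs_step wchk10_ok h10
  have h12 : ∀ d < 6000, okW d = true := okWs_step wchk11_ok h11
  have h13 : ∀ d < 6500, okW d = true := okWs_step wchk12_ok h12
  have h14 : ∀ d < 7000, okW d = true := okWs_step wchk13_ok h13
  have h15 : ∀ d < 7500, okW d = true := okWs_step wchk14_ok h14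
  have h16 : ∀ d < 8000, okW d = true := okWs_step wchk15_ok h15
  have h17 : ∀ d < 8500, okW d = true := okWs_step wchk16_ok h16
  have h18 : ∀ d < 9000, okW d = true := okWs_step wchk17_ok h17
  have h19 : ∀ d < 9500, okW d = true := okWs_step wchk18_ok h18
  have h20 : ∀ d < 10000, okW d = true := okWs_step wchk19_ok h19
  have h21 : ∀ d < 10500, okW d = true := okWs_step wchk20_ok h20
  have h22 : ∀ d < 11000, okW d = true := okWs_step wchk21_ok h21
  have h23 : ∀ d < 11500, okW d = true := okWs_step wchk22_ok h22
  have h24 : ∀ d < 12000, okW d = true := okWs_step wchk23_ok h23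
  have h25 : ∀ d < 12500, okW d = true := okWs_step wchk24_ok h24
  have h26 : ∀ d < 13000, okW d = true := okWs_step wchk25_ok h25
  have h27 : ∀ d < 13500, okW d = true := okWs_step wchk26_ok h26
  have h28 : ∀ d < 14000, okW d = true := okWs_step wchk27_ok h27
  have h29 : ∀ d < 14500, okW d = true := okWs_step wchk28_ok h28
  have h30 : ∀ d < 15000, okW d = true := okWs_step wchk29_ok h29
  have h31 : ∀ d < 15500, okW d = true := okWs_step wchk30_ok h30
  have h32 : ∀ d < 16000, okW d = true := okWs_step wchk31_ok h31
  have h33 : ∀ d < 16500, okW d = true := okWs_step wchk32_ok h32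
  have h34 : ∀ d < 17000, okW d = true := okWs_step wchk33_ok h33
  have h35 : ∀ d < 17500, okW d = true := okWs_step wchk34_ok h34
  have h36 : ∀ d < 18000, okW d = true := okWs_step wchk35_ok h35
  have h37 : ∀ d < 18500, okW d = true := okWs_step wchk36_ok h36
  have h38 : ∀ d < 19000, okW d = true := okWs_step wchk37_ok h37
  have h39 : ∀ d < 19500, okW d = true := okWs_step wchk38_ok h38
  have h40 : ∀ d < 20000, okW d = true := okWs_step wchk39_ok h39
  have h41 : ∀ d < 20500, okW d = true := okWs_step wchk40_ok h40
  have h42 : ∀ d < 21000, okW d = true := okWs_step wchk41_ok h41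
  have h43 : ∀ d < 21500, okW d = true := okWs_step wchk42_ok h42
  have h44 : ∀ d < 22000, okW d = true := okWs_step wchk43_ok h43
  have h45 : ∀ d < 22500, okW d = true := okWs_step wchk44_ok h44
  have h46 : ∀ d < 23000, okW d = true := okWs_step wchk45_ok h45
  have h47 : ∀ d < 23500, okW d = true := okWs_step wchk46_ok h46
  have h48 : ∀ d < 24000, okW d = true := okWs_step wchk47_ok h47
  have h49 : ∀ d < 24500, okW d = true := okWs_step wchk48_ok h48
  have h50 : ∀ d < 25000, okW d = true := okWs_step wchk49_ok h49
  have h51 : ∀ d < 25500, okW d = true := okWs_step wchk50_ok h50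
  have h52 : ∀ d < 26000, okW d = true := okWs_step wchk51_ok h51
  have h53 : ∀ d < 26500, okW d = true := okWs_step wchk52_ok h52
  have h54 : ∀ d < 27000, okW d = true := okWs_step wchk53_ok h53
  have h55 : ∀ d < 27500, okW d = true := okWs_step wchk54_ok h54
  have h56 : ∀ d < 28000, okW d = true := okWs_step wchk55_ok h55
  have h57 : ∀ d < 28500, okW d = true := okWs_step wchk56_ok h56
  have h58 : ∀ d < 29000, okW d = true := okWs_step wchk57_ok h57
  have h59 : ∀ d < 29500, okW d = true := okWs_step wchk58_ok h58
  have h60 : ∀ d < 30000, okW d = true := okWs_step wchk59_ok h59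
  have h61 : ∀ d < 30500, okW d = true := okWs_step wchk60_ok h60
  have h62 : ∀ d < 31000, okW d = true := okWs_step wchk61_ok h61
  have h63 : ∀ d < 31500, okW d = true := okWs_step wchk62_ok h62
  have h64 : ∀ d < 32000, okW d = true := okWs_step wchk63_ok h63
  have h65 : ∀ d < 32500, okW d = true := okWs_step wchk64_ok h64
  have h66 : ∀ d < 33000, okW d = true := okWs_step wchk65_ok h65
  have h67 : ∀ d < 33500, okW d = true := okWs_step wchk66_ok h66
  have h68 : ∀ d < 34000, okW d = true := okWs_step wchk67_ok h67
  have h69 : ∀ d < 34500, okW d = true := okWs_step wchk68_ok h68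
  have h70 : ∀ d < 35000, okW d = true := okWs_step wchk69_ok h69
  have h71 : ∀ d < 35500, okW d = true := okWs_step wchk70_ok h70
  have h72 : ∀ d < 36000, okW d = true := okWs_step wchk71_ok h71
  have h73 : ∀ d < 36500, okW d = true := okWs_step wchk72_ok h72
  have h74 : ∀ d < 37000, okW d = true := okWs_step wchk73_ok h73
  have h75 : ∀ d < 37500, okW d = true := okWs_step wchk74_ok h74
  have h76 : ∀ d < 38000, okW d = true := okWs_step wchk75_ok h75
  have h77 : ∀ d < 38500, okW d = true := okWs_step wchk76_ok h76
  have h78 : ∀ d < 39000, okW d = true := okWs_step wchk77_ok h77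
  have h79 : ∀ d < 39500, okW d = true := okWs_step wchk78_ok h78
  have h80 : ∀ d < 40000, okW d = true := okWs_step wchk79_ok h79
  have h81 : ∀ d < 40500, okW d = true := okWs_step wchk80_ok h80
  have h82 : ∀ d < 41000, okW d = true := okWs_step wchk81_ok h81
  have h83 : ∀ d < 41500, okW d = true := okWs_step wchk82_ok h82
  have h84 : ∀ d < 42000, okW d = true := okWs_step wchk83_ok h83
  have h85 : ∀ d < 42500, okW d = true := okWs_step wchk84_ok h84
  have h86 : ∀ d < 43000, okW d = true := okWs_step wchk85_ok h85
  have h87 : ∀ d < 43500, okW d = true := okWs_step wchk86_ok h86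
  have h88 : ∀ d < 44000, okW d = true := okWs_step wchk87_ok h87
  have h89 : ∀ d < 44500, okW d = true := okWs_step wchk88_ok h88
  have h90 : ∀ d < 45000, okW d = true := okWs_step wchk89_ok h89
  have h91 : ∀ d < 45500, okW d = true := okWs_step wchk90_ok h90
  have h92 : ∀ d < 46000, okW d = true := okWs_step wchk91_ok h91
  have h93 : ∀ d < 46500, okW d = true := okWs_step wchk92_ok h92
  have h94 : ∀ d < 47000, okW d = true := okWs_step wchk93_ok h93
  have h95 : ∀ d < 47500, okW d = true := okWs_step wchk94_ok h94
  have h96 : ∀ d < 48000, okW d = true := okWs_step wchk95_ok h95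
  have h97 : ∀ d < 48500, okW d = true := okWs_step wchk96_ok h96
  have h98 : ∀ d < 49000, okW d = true := okWs_step wchk97_ok h97
  have h99 : ∀ d < 49500, okW d = true := okWs_step wchk98_ok h98
  have h100 : ∀ d < 50000, okW d = true := okWs_step wchk99_ok h99
  have h101 : ∀ d < 50500, okW d = true := okWs_step wchk100_ok h100
  have h102 : ∀ d < 51000, okW d = true := okWs_step wchk101_ok h101
  have h103 : ∀ d < 51500, okW d = true := okWs_step wchk102_ok h102
  have h104 : ∀ d < 52000, okW d = true := okWs_step wchk103_ok h103
  have h105 : ∀ d < 52500, okW d = true := okWs_step wchk104_ok h104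
  have h106 : ∀ d < 53000, okW d = true := okWs_step wchk105_ok h105
  have h107 : ∀ d < 53500, okW d = true := okWs_step wchk106_ok h106
  have h108 : ∀ d < 54000, okW d = true := okWs_step wchk107_ok h107
  have h109 : ∀ d < 54500, okW d = true := okWs_step wchk108_ok h108
  have h110 : ∀ d < 55000, okW d = true := okWs_step wchk109_ok h109
  have h111 : ∀ d < 55500, okW d = true := okWs_step wchk110_ok h110
  have h112 : ∀ d < 56000, okW d = true := okWs_step wchk111_ok h111
  have h113 : ∀ d < 56500, okW d = true := okWs_step wchk112_ok h112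
  have h114 : ∀ d < 57000, okW d = true := okWs_step wchk113_ok h113
  have h115 : ∀ d < 57500, okW d = true := okWs_step wchk114_ok h114
  have h116 : ∀ d < 58000, okW d = true := okWs_step wchk115_ok h115
  have h117 : ∀ d < 58500, okW d = true := okWs_step wchk116_ok h116
  have h118 : ∀ d < 59000, okW d = true := okWs_step wchk117_ok h117
  have h119 : ∀ d < 59500, okW d = true := okWs_step wchk118_ok h118
  have h120 : ∀ d < 60000, okW d = true := okWs_step wchk119_ok h119
  have h121 : ∀ d < 60500, okW d = true := okWs_step wchk120_ok h120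
  have h122 : ∀ d < 61000, okW d = true := okWs_step wchk121_ok h121
  have h123 : ∀ d < 61500, okW d = true := okWs_step wchk122_ok h122
  have h124 : ∀ d < 62000, okW d = true := okWs_step wchk123_ok h123
  have h125 : ∀ d < 62500, okW d = true := okWs_step wchk124_ok h124
  have h126 : ∀ d < 63000, okW d = true := okWs_step wchk125_ok h125
  have h127 : ∀ d < 63500, okW d = true := okWs_step wchk126_ok h126
  have h128 : ∀ d < 64000, okW d = true := okWs_step wchk127_ok h127
  have h129 : ∀ d < 64500, okW d = true := okWs_step wchk128_ok h128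
  have h130 : ∀ d < 65000, okW d = true := okWs_step wchk129_ok h129
  have h131 : ∀ d < 65500, okW d = true := okWs_step wchk130_ok h130
  have h132 : ∀ d < 66000, okW d = true := okWs_step wchk131_ok h131
  have h133 : ∀ d < 66500, okW d = true := okWs_step wchk132_ok h132
  have h134 : ∀ d < 67000, okW d = true := okWs_step wchk133_ok h133
  have h135 : ∀ d < 67500, okW d = true := okWs_step wchk134_ok h134
  have h136 : ∀ d < 68000, okW d = true := okWs_step wchk135_ok h135
  have h137 : ∀ d < 68500, okW d = true := okWs_step wchk136_ok h136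
  have h138 : ∀ d < 69000, okW d = true := okWs_step wchk137_ok h137
  have h139 : ∀ d < 69500, okW d = true := okWs_step wchk138_ok h138
  have h140 : ∀ d < 70000, okW d = true := okWs_step wchk139_ok h139
  have h141 : ∀ d < 70500, okW d = true := okWs_step wchk140_ok h140
  have h142 : ∀ d < 71000, okW d = true := okWs_step wchk141_ok h141
  have h143 : ∀ d < 71500, okW d = true := okWs_step wchk142_ok h142
  have h144 : ∀ d < 72000, okW d = true := okWs_step wchk143_ok h143
  have h145 : ∀ d < 72500, okW d = true := okWs_step wchk144_ok h144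
  have h146 : ∀ d < 73000, okW d = true := okWs_step wchk145_ok h145
  have h147 : ∀ d < 73500, okW d = true := okWs_step wchk146_ok h146
  have h148 : ∀ d < 74000, okW d = true := okWs_step wchk147_ok h147
  have h149 : ∀ d < 74500, okW d = true := okWs_step wchk148_ok h148
  have h150 : ∀ d < 75000, okW d = true := okWs_step wchk149_ok h149
  have h151 : ∀ d < 75500, okW d = true := okWs_step wchk150_ok h150
  have h152 : ∀ d < 76000, okW d = true := okWs_step wchk151_ok h151
  have h153 : ∀ d < 76500, okW d = true := okWs_step wchk152_ok h152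
  have h154 : ∀ d < 77000, okW d = true := okWs_step wchk153_ok h153
  have h155 : ∀ d < 77500, okW d = true := okWs_step wchk154_ok h154
  have h156 : ∀ d < 78000, okW d = true := okWs_step wchk155_ok h155
  have h157 : ∀ d < 78500, okW d = true := okWs_step wchk156_ok h156
  have h158 : ∀ d < 79000, okW d = true := okWs_step wchk157_ok h157
  have h159 : ∀ d < 79500, okW d = true := okWs_step wchk158_ok h158
  have h160 : ∀ d < 80000, okW d = true := okWs_step wchk159_ok h159
  have h161 : ∀ d < 80500, okW d = true := okWs_step wchk160_ok h160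
  have h162 : ∀ d < 81000, okW d = true := okWs_step wchk161_ok h161
  have h163 : ∀ d < 81500, okW d = true := okWs_step wchk162_ok h162
  have h164 : ∀ d < 82000, okW d = true := okWs_step wchk163_ok h163
  have h165 : ∀ d < 82500, okW d = true := okWs_step wchk164_ok h164
  have h166 : ∀ d < 83000, okW d = true := okWs_step wchk165_ok h165
  have h167 : ∀ d < 83500, okW d = true := okWs_step wchk166_ok h166
  have h168 : ∀ d < 84000, okW d = true := okWs_step wchk167_ok h167
  have h169 : ∀ d < 84500, okW d = true := okWs_step wchk168_ok h168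
  have h170 : ∀ d < 85000, okW d = true := okWs_step wchk169_ok h169
  have h171 : ∀ d < 85500, okW d = true := okWs_step wchk170_ok h170
  have h172 : ∀ d < 86000, okW d = true := okWs_step wchk171_ok h171
  have h173 : ∀ d < 86500, okW d = true := okWs_step wchk172_ok h172
  have h174 : ∀ d < 87000, okW d = true := okWs_step wchk173_ok h173
  have h175 : ∀ d < 87500, okW d = true := okWs_step wchk174_ok h174
  have h176 : ∀ d < 88000, okW d = true := okWs_step wchk175_ok h175
  have h177 : ∀ d < 88500, okW d = true := okWs_step wchk176_ok h176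
  have h178 : ∀ d < 89000, okW d = true := okWs_step wchk177_ok h177
  have h179 : ∀ d < 89500, okW d = true := okWs_step wchk178_ok h178
  have h180 : ∀ d < 90000, okW d = true := okWs_step wchk179_ok h179
  have h181 : ∀ d < 90500, okW d = true := okWs_step wchk180_ok h180
  have h182 : ∀ d < 91000, okW d = true := okWs_step wchk181_ok h181
  have h183 : ∀ d < 91500, okW d = true := okWs_step wchk182_ok h182
  have h184 : ∀ d < 92000, okW d = true := okWs_step wchk183_ok h183
  have h185 : ∀ d < 92500, okW d = true := okWs_step wchk184_ok h184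
  have h186 : ∀ d < 93000, okW d = true := okWs_step wchk185_ok h185
  have h187 : ∀ d < 93500, okW d = true := okWs_step wchk186_ok h186
  have h188 : ∀ d < 94000, okW d = true := okWs_step wchk187_ok h187
  have h189 : ∀ d < 94500, okW d = true := okWs_step wchk188_ok h188
  have h190 : ∀ d < 95000, okW d = true := okWs_step wchk189_ok h189
  have h191 : ∀ d < 95500, okW d = true := okWs_step wchk190_ok h190
  have h192 : ∀ d < 96000, okW d = true := okWs_step wchk191_ok h191
  have h193 : ∀ d < 96500, okW d = true := okWs_step wchk192_ok h192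
  have h194 : ∀ d < 97000, okW d = true := okWs_step wchk193_ok h193
  have h195 : ∀ d < 97500, okW d = true := okWs_step wchk194_ok h194
  have h196 : ∀ d < 98000, okW d = true := okWs_step wchk195_ok h195
  have h197 : ∀ d < 98500, okW d = true := okWs_step wchk196_ok h196
  have h198 : ∀ d < 99000, okW d = true := okWs_step wchk197_ok h197
  have h199 : ∀ d < 99500, okW d = true := okWs_step wchk198_ok h198
  have h200 : ∀ d < 100000, okW d = true := okWs_step wchk199_ok h199
  have h201 : ∀ d < 100500, okW d = true := okWs_step wchk200_ok h200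
  have h202 : ∀ d < 101000, okW d = true := okWs_step wchk201_ok h201
  have h203 : ∀ d < 101500, okW d = true := okWs_step wchk202_ok h202
  have h204 : ∀ d < 102000, okW d = true := okWs_step wchk203_ok h203
  have h205 : ∀ d < 102500, okW d = true := okWs_step wchk204_ok h204
  have h206 : ∀ d < 103000, okW d = true := okWs_step wchk205_ok h205
  have h207 : ∀ d < 103500, okW d = true := okWs_step wchk206_ok h206
  have h208 : ∀ d < 104000, okW d = true := okWs_step wchk207_ok h207
  have h209 : ∀ d < 104500, okW d = true := okWs_step wchk208_ok h208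
  have h210 : ∀ d < 105000, okW d = true := okWs_step wchk209_ok h209
  have h211 : ∀ d < 105500, okW d = true := okWs_step wchk210_ok h210
  have h212 : ∀ d < 106000, okW d = true := okWs_step wchk211_ok h211
  have h213 : ∀ d < 106500, okW d = true := okWs_step wchk212_ok h212
  have h214 : ∀ d < 107000, okW d = true := okWs_step wchk213_ok h213
  have h215 : ∀ d < 107500, okW d = true := okWs_step wchk214_ok h214
  have h216 : ∀ d < 108000, okW d = true := okWs_step wchk215_ok h215
  have h217 : ∀ d < 108500, okW d = true := okWs_step wchk216_ok h216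
  have h218 : ∀ d < 109000, okW d = true := okWs_step wchk217_ok h217
  have h219 : ∀ d < 109500, okW d = true := okWs_step wchk218_ok h218
  have h220 : ∀ d < 110000, okW d = true := okWs_step wchk219_ok h219
  have h221 : ∀ d < 110500, okW d = true := okWs_step wchk220_ok h220
  have h222 : ∀ d < 111000, okW d = true := okWs_step wchk221_ok h221
  have h223 : ∀ d < 111500, okW d = true := okWs_step wchk222_ok h222
  have h224 : ∀ d < 112000, okW d = true := okWs_step wchk223_ok h223
  have h225 : ∀ d < 112500, okW d = true := okWs_step wchk224_ok h224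
  have h226 : ∀ d < 113000, okW d = true := okWs_step wchk225_ok h225
  have h227 : ∀ d < 113500, okW d = true := okWs_step wchk226_ok h226
  have h228 : ∀ d < 114000, okW d = true := okWs_step wchk227_ok h227
  have h229 : ∀ d < 114500, okW d = true := okWs_step wchk228_ok h228
  have h230 : ∀ d < 115000, okW d = true := okWs_step wchk229_ok h229
  have h231 : ∀ d < 115500, okW d = true := okWs_step wchk230_ok h230
  have h232 : ∀ d < 116000, okW d = true := okWs_step wchk231_ok h231
  have h233 : ∀ d < 116500, okW d = true := okWs_step wchk232_ok h232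
  have h234 : ∀ d < 117000, okW d = true := okWs_step wchk233_ok h233
  have h235 : ∀ d < 117500, okW d = true := okWs_step wchk234_ok h234
  have h236 : ∀ d < 118000, okW d = true := okWs_step wchk235_ok h235
  have h237 : ∀ d < 118500, okW d = true := okWs_step wchk236_ok h236
  have h238 : ∀ d < 119000, okW d = true := okWs_step wchk237_ok h237
  have h239 : ∀ d < 119500, okW d = true := okWs_step wchk238_ok h238
  have h240 : ∀ d < 120000, okW d = true := okWs_step wchk239_ok h239
  have h241 : ∀ d < 120500, okW d = true := okWs_step wchk240_ok h240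
  have h242 : ∀ d < 121000, okW d = true := okWs_step wchk241_ok h241
  have h243 : ∀ d < 121500, okW d = true := okWs_step wchk242_ok h242
  have h244 : ∀ d < 122000, okW d = true := okWs_step wchk243_ok h243
  have h245 : ∀ d < 122500, okW d = true := okWs_step wchk244_ok h244
  have h246 : ∀ d < 122760, okW d = true := okWs_step wchk245_ok h245
  exact h246

end CfsgLib.ONMult
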