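/-
A triple cover of the presented O'Nan group.
-/
import Cfsg.Agent.Lib.ONMult.Monomial
import Cfsg.Agent.Lib.ONMult.WAll
import Cfsg.Agent.Lib.CosetEnum.ONOrder

set_option autoImplicit false
set_option maxRecDepth 1000000

namespace CfsgLib.ONMult

open CfsgLib.CosetEnum CfsgLib.CosetEnum.ON122760

theorem runW_eq : ∀ (w : List ℕ) (d s : ℕ), runW w d s = Monomial.sumW cert wAt w d s := by
  intro w
  induction w with
  | nil => intro d s; rfl
  | cons x w ih =>
    intro d s
    show force (table.act 7 d x) (fun d' => force (Nat.add s (wAt x d)) fun s' => runW w d' s') = _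
    rw [force_eq, force_eq, ih]
    rfl

/-- The check of a list of relators against a list of values. -/
noncomputable def okW' (d : ℕ) (L : List (List ℕ)) (cs : List ℕ) : Bool :=
  List.rec (motive := fun _ => List ℕ → Bool) (fun _ => true)
    (fun w _ ih cs => Nat.beq (Nat.mod (runW w d (nat_lit 0)) (nat_lit 3)) (cs.headD (nat_lit 0)) && ih cs.tail)
    L cs

theorem okW'_spec (d : ℕ) : ∀ (L : List (List ℕ)) (cs : List ℕ), okW' d L cs = true →
    ∀ i < L.length, runW (L.getD i []) d 0 % 3 = cs.getD i 0 := by
  intro L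
  induction L with
  | nil => intro cs _ i hi; exact absurd hi (Nat.not_lt_zero i)
  | cons w L ih =>
    intro cs h i hi
    simp only [okW', Bool.and_eq_true] at h
    rcases i with _ | i
    · have := Nat.eq_of_beq_eq_true h.1
      rw [List.getD_cons_zero]
      change runW w d 0 % 3 = cs.headD 0 at this
      rcases cs with _ | ⟨c, cs⟩ <;> simpa using this
    · rw [List.getD_cons_succ, ih cs.tail h.2 i (Nat.lt_of_succ_lt_succ hi)]
      rcases cs with _ | ⟨c, cs⟩ <;> simp

theorem weights_rels : (∀ x < 7, ∃ i < rels.length, rels.getD i [] = [x, x] ∧ wRel.getD i 0 = 0) ∧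
    (∃ i < rels.length, wRel.getD i 0 = 1) ∧ (∀ w ∈ rels, ∀ x ∈ w, x < 7) := by decide +kernel

theorem weights_ok : Monomial.Ok cert wAt wRel where
  sums i hi d hd := by
    rw [rels_eq] at hi ⊢
    rw [← runW_eq]
    exact okW'_spec d rels wRel (okW_all d hd) i hi
  square := by rw [rels_eq]; exact weights_rels.1
  value := by rw [rels_eq]; exact weights_rels.2.1
  letters := by rw [rels_eq]; exact weights_rels.2.2
  numbered := presON_idx

theorem exists_cover : ∃ (Γ : Type) (_ : Group Γ) (_ : Finite Γ) (σ : Γ →* presON.Grp),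
    Cfsg.IsStemExtension σ ∧ Nat.card σ.ker = 3 := by
  haveI := presON_upper.1
  exact Monomial.exists_cover weights_ok

end CfsgLib.ONMult
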