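/-
The Schur multiplier of the O'Nan group has order three.
-/
import Cfsg.Agent.Lib.ONMult.Cover
import Cfsg.Agent.Lib.ONMult.Bound
import Cfsg.Agent.Lib.CosetEnum.ONIso
import Cfsg.Prelude.Def_KGroupFacts

set_option autoImplicit false
set_option linter.style.haveILetI false

namespace CfsgLib.ONMult

open Subgroup CfsgLib.CosetEnum

theorem multiplier : Cfsg.HasCyclicSchurMultiplier Cfsg.Spor.ON 3 := by
  classical
  haveI : Fact (Nat.Prime 3) := ⟨Nat.prime_three⟩
  haveI := presON_upper.1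
  have hZ : Nat.card (Multiplicative (ZMod 3)) = 3 := by simp
  refine ⟨?_, fun Γ _ _ σ hσ => ?_⟩
  · obtain ⟨E, _, _, τ, hτ, hk⟩ := exists_cover
    let τ' : E →* Cfsg.Spor.ON := onEquiv.symm.toMonoidHom.comp τ
    have hker : τ'.ker = τ.ker := by ext x; simp [τ', MonoidHom.mem_ker]
    refine ⟨E, inferInstance, inferInstance, τ', ⟨onEquiv.symm.surjective.comp hτ.1, hker ▸ hτ.2.1, hker ▸ hτ.2.2⟩,
      ⟨mulEquivOfPrimeCardEq ?_ hZ⟩⟩
    rw [hker, hk]
  · obtain ⟨w, hw, hw3, hle⟩ := ker_small (σ := onEquiv.toMonoidHom.comp σ)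
      ⟨onEquiv.surjective.comp hσ.1, fun x hx => hσ.2.1 (by simpa using hx), fun x hx => hσ.2.2 (by simpa using hx)⟩
    have hw' : w ∈ σ.ker := by simpa using hw
    have hle' : σ.ker ≤ zpowers w := fun x hx => hle (by simpa using hx)
    by_cases h1 : w = 1
    · refine ⟨1, fun x => ⟨1, ?_⟩⟩
      have := hle' x.2
      rw [h1, Subgroup.zpowers_one_eq_bot, Subgroup.mem_bot] at this
      exact Subtype.ext this.symm
    · have hc : Nat.card σ.ker = 3 := by
        rw [le_antisymm hle' (Subgroup.zpowers_le.mpr hw'), Nat.card_zpowers, orderOf_eq_prime hw3 h1]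
      exact ⟨(mulEquivOfPrimeCardEq hZ hc).toMonoidHom, (mulEquivOfPrimeCardEq hZ hc).surjective⟩

end CfsgLib.ONMult
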