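/-
Checks of the weights on some of the points.
-/
import Cfsg.Agent.Lib.ONMult.WDefs

set_option autoImplicit false
set_option maxRecDepth 1000000

namespace CfsgLib.ONMult

theorem wchk96_ok : okWs 48000 500 = true := by decide +kernel

theorem wchk97_ok : okWs 48500 500 = true := by decide +kernel

theorem wchk98_ok : okWs 49000 500 = true := by decide +kernel

theorem wchk99_ok : okWs 49500 500 = true := by decide +kernel

theorem wchk100_ok : okWs 50000 500 = true := by decide +kernel

theorem wchk101_ok : okWs 50500 500 = true := by decide +kernel

theorem wchk102_ok : okWs 51000 500 = true := by decide +kernel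

theorem wchk103_ok : okWs 51500 500 = true := by decide +kernel

end CfsgLib.ONMult
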