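/-
Checks of the weights on some of the points.
-/
import Cfsg.Agent.Lib.ONMult.WDefs

set_option autoImplicit false
set_option maxRecDepth 1000000

namespace CfsgLib.ONMult

theorem wchk208_ok : okWs 104000 500 = true := by decide +kernel

theorem wchk209_ok : okWs 104500 500 = true := by decide +kernel

theorem wchk210_ok : okWs 105000 500 = true := by decide +kernel

theorem wchk211_ok : okWs 105500 500 = true := by decide +kernel

theorem wchk212_ok : okWs 106000 500 = true := by decide +kernel

theorem wchk213_ok : okWs 106500 500 = true := by decide +kernel

theorem wchk214_ok : okWs 107000 500 = true := by decide +kernel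

theorem wchk215_ok : okWs 107500 500 = true := by decide +kernel

end CfsgLib.ONMult
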